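import Cfsg.Agent.SP.Mon.D3.Core
import Cfsg.Agent.SP.Mon.L3.Iface
import Cfsg.Agent.TAB.C3B.Ident

/-! # S5755, the Monster: box `Rk` (helper23) -/

set_option autoImplicit false
set_option maxRecDepth 100000

namespace Cfsg.Agent.SP.Mon.D3

open Subgroup Cfsg
open Cfsg.Agent.BpSpor.MBigModel (MG zz pi)
open Cfsg.Agent.H777.Th3 (cj mem_cj card_cj)

/-- **Box `Rk`.** -/
theorem boxRk : BoxRk := by
  have := BpSpor.MBigModel.finite
  rintro V _ he hc hx ⟨x, h1, h2, c, rfl⟩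
  obtain ⟨m, -⟩ := TAB.C3B.exists_mod h1 h2
  have e : ∀ a b : MG, c * a * c⁻¹ * (c * b * c⁻¹) = c * (a * b) * c⁻¹ := fun a b => by group
  have hc' : ∀ v ∈ cj V c, ∀ w ∈ cj V c, v * w = w * v := fun v hv w hw => by
    have h := hc _ (mem_cj.1 hv) _ (mem_cj.1 hw)
    rwa [e, e, mul_left_inj, mul_right_inj] at h
  have hle : cj V c ≤ centralizer ({(x : MG)} : Set MG) := fun v hv =>
    mem_centralizer_singleton_iff.2 (hc' v hv _ (mem_cj.2 hx))
  rw [← card_cj V c, ← Nat.card_congr (subgroupOfEquivOfLe hle).toEquiv]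
  refine rank_le m (fun v hv => Subtype.ext ?_) fun v hv w hw => Subtype.ext (hc' _ hv _ hw)
  have h := he _ (mem_cj.1 hv)
  rw [conj_pow, mul_inv_eq_one, mul_eq_left] at h
  exact h

end Cfsg.Agent.SP.Mon.D3
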